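import Groth.Agent.IsogFib7.Pow
import Groth.Agent.AbSch7.Biadd
import Groth.Agent.PtsDesc95.Exact
import Groth.Agent.GaExt25.Glue
import Groth.Agent.SpPts86.LocPMore
import Groth.Agent.AbSch7.BiextDiv

/-!
The sheaf of points of an abelian scheme is divisible: multiplication by a nonzero integer is an
epimorphism of fppf sheaves.
-/

set_option autoImplicit false
set_option linter.style.haveILetI false
universe u
open CategoryTheory CategoryTheory.Limits MonoidalCategory CartesianMonoidalCategory MonObj GrpObj AlgebraicGeometry Opposite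

noncomputable section

namespace Groth.Agent.AbDiv7

variable {S : Scheme.{u}} (A : Over S) [GrpObj A]

/-- Multiplication by a positive integer on an abelian scheme lifts points fppf-locally. -/
theorem locLift_pow [Smooth A.hom] [IsProper A.hom] (hA : ∀ s : S, ConnectedSpace ↥(A.hom.fiber s))
    (n : ℕ) (hn : 1 ≤ n) : PtsDesc95.LocLift Scheme.fppfPrecoverage (𝟙 A ^ n) := by
  obtain ⟨hgc, hgr⟩ := AbSch7.geometrically_of_smooth_group A hA
  obtain ⟨hfin, hfl, hsurj⟩ := IsogFib7.isFinite_flat_surjective_pow A n hn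
  haveI hfp : LocallyOfFinitePresentation (𝟙 A ^ n).left := by
    haveI : LocallyOfFinitePresentation ((𝟙 A ^ n).left ≫ A.hom) := by
      rw [Over.w (𝟙 A ^ n)]; infer_instance
    exact SpPts86.lfp_of_comp _ A.hom
  intro T y
  let π : pullback y.left (𝟙 A ^ n).left ⟶ T.left := pullback.fst _ _
  haveI : Flat π := inferInstanceAs (Flat (pullback.fst y.left (𝟙 A ^ n).left))
  haveI : LocallyOfFinitePresentation π :=
    inferInstanceAs (LocallyOfFinitePresentation (pullback.fst y.left (𝟙 A ^ n).left))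
  haveI : Surjective π := inferInstanceAs (Surjective (pullback.fst y.left (𝟙 A ^ n).left))
  let π' : Over.mk (π ≫ T.hom) ⟶ T := Over.homMk π
  refine ⟨_, GaExt25.generate_mem (fun _ : PUnit.{u + 1} => π')
    (fun _ => (inferInstance : Flat π)) (fun _ => (inferInstance : LocallyOfFinitePresentation π))
    (fun x => ⟨PUnit.unit, ‹Surjective π›.surj x⟩), ?_⟩
  rintro Z f ⟨W, a, b, ⟨⟨⟩⟩, rfl⟩
  refine ⟨a ≫ Over.homMk (pullback.snd y.left (𝟙 A ^ n).left) ?_, ?_⟩
  · show pullback.snd y.left (𝟙 A ^ n).left ≫ A.hom = π ≫ T.hom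
    rw [← Over.w (𝟙 A ^ n), ← pullback.condition_assoc, Over.w y]
  · rw [Category.assoc, Category.assoc]
    congr 1
    ext : 1
    exact pullback.condition.symm

variable [IsCommMonObj A]

/-- The sheaf of points of an abelian scheme is divisible. -/
theorem epi_nsmul_pts [Smooth A.hom] [IsProper A.hom] (hA : ∀ s : S, ConnectedSpace ↥(A.hom.fiber s))
    (n : ℕ) (hn : 1 ≤ n) : Epi (n • 𝟙 (CGrpSh.pts Scheme.fppfPrecoverage A)) := by
  haveI : IsMonHom (𝟙 A ^ n) :=
    { one_hom := by rw [MonObj.comp_pow, Category.comp_id, MonObj.one_eq_one, one_pow]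
      mul_hom := by
        rw [MonObj.comp_pow, Category.comp_id, MonObj.mul_eq_mul, MonObj.comp_mul, tensorHom_fst, tensorHom_snd,
          MonObj.comp_pow, MonObj.comp_pow, Category.comp_id, Category.comp_id, mul_pow] }
  have h : n • 𝟙 (CGrpSh.pts Scheme.fppfPrecoverage A) = CGrpSh.ptsMap Scheme.fppfPrecoverage (𝟙 A ^ n) := by
    refine Sheaf.hom_ext (NatTrans.ext (funext fun T => AddCommGrpCat.ext fun x => ?_))
    refine ULift.ext _ _ ?_
    show ((n • 𝟙 (CGrpSh.pts Scheme.fppfPrecoverage A)).hom.app T x).down = Additive.ofMul (x.down.toMul ≫ (𝟙 A ^ n))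
    rw [MonObj.comp_pow, Category.comp_id]
    rw [← natCast_zsmul (𝟙 (CGrpSh.pts Scheme.fppfPrecoverage A)) n, AbSch7.smul_id_app _ _ T.unop x, natCast_zsmul]
    rfl
  rw [h]
  exact PtsDesc95.epi_of_locLift _ (locLift_pow A hA n hn)

/-- Multiplication by a nonzero integer is an epimorphism on the sheaf of points of an abelian scheme. -/
theorem epi_zsmul_pts [Smooth A.hom] [IsProper A.hom] (hA : ∀ s : S, ConnectedSpace ↥(A.hom.fiber s))
    (n : ℤ) (hn : n ≠ 0) : Epi (n • 𝟙 (CGrpSh.pts Scheme.fppfPrecoverage A)) := by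
  haveI := epi_nsmul_pts A hA n.natAbs (Int.natAbs_pos.2 hn)
  rcases Int.natAbs_eq n with h | h
  · rw [h, natCast_zsmul]; infer_instance
  · rw [h, neg_zsmul, natCast_zsmul]; infer_instance

end Groth.Agent.AbDiv7
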